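import Groth.Agent.Quot.BaseLocal
import Groth.Agent.ArtfunDeform.QuotDef.Art
import Groth.Agent.CohBase.InvNearFibre

/-!
The Quot scheme of a projective morphism is locally of finite type.
-/

set_option autoImplicit false
set_option linter.style.longLine false
set_option backward.isDefEq.respectTransparency.types false

noncomputable section

universe u

open CategoryTheory CategoryTheory.Limits AlgebraicGeometry

namespace Groth.ArtfunDeform.QuotDef

/-- Two objects representing the Quot functor are isomorphic. -/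
theorem nonempty_iso_of_representedBy {X S : Scheme.{u}} (x : X ⟶ S) (E : X.Modules) [E.IsQuasicoherent]
    {Q Q' : Over S} {Ku : FGA.QuotSet x E Q} {Ku' : FGA.QuotSet x E Q'} (h : FGA.QuotRepresentedBy x E Q Ku)
    (h' : FGA.QuotRepresentedBy x E Q' Ku') : Nonempty (Q ≅ Q') := by
  have := h.1
  have := h'.1
  obtain ⟨a, ha, -⟩ := h'.2 Q Ku
  obtain ⟨b, hb, -⟩ := h.2 Q' Ku'
  refine ⟨⟨a, b, (h.2 Q Ku).unique ?_ (quotPull_id x E Ku.1), (h'.2 Q' Ku').unique ?_ (quotPull_id x E Ku'.1)⟩⟩
  · rw [← quotPull_quotPull, hb, ha]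
  · rw [← quotPull_quotPull, ha, hb]

/-- The Quot scheme of a projective morphism over a Noetherian base is locally of finite type. -/
theorem locallyOfFiniteType_quot {X S : Scheme.{u}} [IsNoetherian S] (x : X ⟶ S)
    (hprojX : ∃ (n : ℕ) (c : X ⟶ CohB1.ProjSpaceOver n S),
      IsClosedImmersion c ∧ c ≫ CohB1.ProjSpaceOver.toBase n S = x)
    (E : X.Modules) (hE : Coh.IsCoh E) (Q : Over S) (Ku : FGA.QuotSet x E Q)
    (hQ : FGA.QuotRepresentedBy x E Q Ku) : LocallyOfFiniteType Q.hom := by
  obtain ⟨n, c, hc, rfl⟩ := hprojX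
  have := hE.1
  have := hc
  obtain ⟨Q', K', hQ', ι, P, e, hP⟩ := Groth.Quot.exists_quotScheme_proper c E hE
  obtain ⟨i⟩ := nonempty_iso_of_representedBy _ E hQ hQ'
  have h1 : LocallyOfFiniteType (e.hom ≫ Q'.hom) := by
    refine (IsZariskiLocalAtSource.iff_of_openCover (P := (@LocallyOfFiniteType : MorphismProperty Scheme.{u})) (sigmaOpenCover P)).2 fun a => ?_
    have := hP a
    exact inferInstanceAs (LocallyOfFiniteType (Limits.Sigma.ι P a ≫ e.hom ≫ Q'.hom))
  have h2 : LocallyOfFiniteType Q'.hom :=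
    (MorphismProperty.cancel_left_of_respectsIso (@LocallyOfFiniteType : MorphismProperty Scheme.{u}) e.hom _).1 h1
  rw [← Over.w i.hom]
  infer_instance

end Groth.ArtfunDeform.QuotDef
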