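import Groth.Agent.S19672
import Groth.Agent.S1535
import Groth.Agent.S1617
import Groth.Agent.S2768
import Groth.Agent.Curves1.CurveMor.Uniformizer
import Groth.Agent.Quot.Transport
import Groth.Agent.ArtfunDeform.QuotDef.Art

/-!
The fibre of a Quot scheme and the relative dimension at a rational point.
-/

set_option autoImplicit false
set_option linter.style.longLine false

noncomputable section

universe u

open CategoryTheory CategoryTheory.Limits AlgebraicGeometry
open Groth.Quot (bcSub bcSub_bijective bcSub_mem_iff quotPull_bcSub exists_bcSub_cokernel_iso)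

namespace Groth.ArtfunDeform.QuotDef

/-- Submodules and quotients of the pullback along an isomorphism. -/
theorem nonempty_subPull_iso {Y' Y : Scheme.{u}} (a : Y' ⟶ Y) [IsIso a] {B : Y.Modules} {B' : Y'.Modules}
    (e : (Scheme.Modules.pullback a).obj B ≅ B') (K : Subobject B) :
    Nonempty ((Scheme.Modules.pullback a).obj (Subobject.underlying.obj K) ≅
        Subobject.underlying.obj (Groth.Quot.subPull a e K)) ∧
      Nonempty ((Scheme.Modules.pullback a).obj (cokernel K.arrow) ≅ cokernel (Groth.Quot.subPull a e K).arrow) := by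
  have := Groth.Quot.isEquivalence_pullback_of_isIso a
  refine ⟨⟨(imageMonoIsoSource ((Scheme.Modules.pullback a).map K.arrow ≫ e.hom)).symm ≪≫ (imageSubobjectIso _).symm⟩,
    ⟨(Groth.Quot.exists_subPull_cokernel_iso a e K).choose⟩⟩

/-- Pullback along an isomorphism over a field does not change the dimension of maps. -/
theorem finrank_hom_pullback {k : Type u} [Field k] {Y' Y : Scheme.{u}} [Y'.Over (Spec (CommRingCat.of k))]
    [Y.Over (Spec (CommRingCat.of k))] (a : Y' ⟶ Y) [IsIso a] [a.IsOver (Spec (CommRingCat.of k))]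
    {M N : Y.Modules} {M' N' : Y'.Modules} (eM : (Scheme.Modules.pullback a).obj M ≅ M')
    (eN : (Scheme.Modules.pullback a).obj N ≅ N') :
    Module.finrank k (M' ⟶ N') = Module.finrank k (M ⟶ N) := by
  have := Groth.Quot.isEquivalence_pullback_of_isIso a
  let adj := Scheme.Modules.pullbackPushforwardAdjunction a
  have : (Scheme.Modules.pushforward a).IsEquivalence := adj.isEquivalence_right_of_isEquivalence_left
  let L : (M' ⟶ N') →ₗ[k] ((Scheme.Modules.pushforward a).obj M' ⟶ (Scheme.Modules.pushforward a).obj N') :=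
    (Scheme.Modules.pushforward a).mapLinearMap k
  have hL : Function.Bijective L := (Functor.FullyFaithful.ofFullyFaithful (Scheme.Modules.pushforward a)).map_bijective M' N'
  let e₁ : M ≅ (Scheme.Modules.pushforward a).obj M' :=
    asIso (adj.unit.app M) ≪≫ (Scheme.Modules.pushforward a).mapIso eM
  let e₂ : N ≅ (Scheme.Modules.pushforward a).obj N' :=
    asIso (adj.unit.app N) ≪≫ (Scheme.Modules.pushforward a).mapIso eN
  exact ((LinearEquiv.ofBijective L hL).trans (Linear.homCongr k e₁.symm e₂.symm)).finrank_eq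

/-- The first projection of the product with the base point. -/
abbrev fibFst {k : Type u} [Field k] {Y : Scheme.{u}} (f : Y ⟶ Spec (CommRingCat.of k)) :
    PicF.XT f (Over.mk (𝟙 (Spec (CommRingCat.of k)))) ⟶ Y :=
  pullback.fst f (Over.mk (𝟙 (Spec (CommRingCat.of k)))).hom

instance {k : Type u} [Field k] {Y : Scheme.{u}} (f : Y ⟶ Spec (CommRingCat.of k)) : IsIso (fibFst f) :=
  inferInstanceAs (IsIso (pullback.fst f (𝟙 (Spec (CommRingCat.of k)))))

/-- The fibre of a Quot scheme over a field valued point represents the Quot functor of the fibre. -/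
theorem exists_fibre_repr {k : Type u} [Field k] {X S : Scheme.{u}} (x : X ⟶ S) (E : X.Modules) [E.IsQuasicoherent]
    {Q : Over S} [LocallyOfFiniteType Q.hom] {Ku : FGA.QuotSet x E Q} (hQ : FGA.QuotRepresentedBy x E Q Ku)
    (φ : Spec (CommRingCat.of k) ⟶ S) (g : Over.mk φ ⟶ Q) (K₀ : Subobject (FGA.ET x E (Over.mk φ)))
    (hg : FGA.quotPull x E g Ku.1 = K₀) :
    let Qs : Over (Spec (CommRingCat.of k)) := Over.mk (pullback.snd Q.hom φ)
    let f' := PicF.XTproj x (Over.mk φ)
    let E' := FGA.ET x E (Over.mk φ)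
    ∃ (K' : FGA.QuotSet f' E' Qs) (g' : Over.mk (𝟙 (Spec (CommRingCat.of k))) ⟶ Qs),
      FGA.QuotRepresentedBy f' E' Qs K' ∧ g'.left ≫ pullback.fst Q.hom φ = g.left ∧
      Nonempty ((Scheme.Modules.pullback (fibFst f')).obj (Subobject.underlying.obj K₀) ≅
        Subobject.underlying.obj (FGA.quotPull f' E' g' K'.1)) ∧
      Nonempty ((Scheme.Modules.pullback (fibFst f')).obj (cokernel K₀.arrow) ≅
        cokernel (FGA.quotPull f' E' g' K'.1).arrow) := by
  intro Qs f' E'
  let H : IsPullback (pullback.fst x φ) f' x φ := IsPullback.of_hasPullback x φ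
  let ε : (Scheme.Modules.pullback (pullback.fst x φ)).obj E ≅ E' := Iso.refl _
  let π : (Over.map φ).obj Qs ⟶ Q := Over.homMk (pullback.fst Q.hom φ) pullback.condition
  have : LocallyOfFiniteType Qs.hom := inferInstanceAs (LocallyOfFiniteType (pullback.snd Q.hom φ))
  have hQs : IsLocallyNoetherian Qs.left := LocallyOfFiniteType.isLocallyNoetherian Qs.hom
  have : IsLocallyNoetherian ((Over.map φ).obj Qs).left := hQs
  let K₁ := pullSet x E π Ku
  let K' : FGA.QuotSet f' E' Qs := ⟨bcSub H ε Qs K₁.1, (bcSub_mem_iff H ε Qs K₁.1).2 K₁.2⟩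
  let g' : Over.mk (𝟙 (Spec (CommRingCat.of k))) ⟶ Qs :=
    Over.homMk (pullback.lift g.left (𝟙 _) ((Over.w g).trans (Category.id_comp φ).symm)) (pullback.lift_snd _ _ _)
  have hgK : ∀ (T : Over (Spec (CommRingCat.of k))) (u : T ⟶ Qs),
      FGA.quotPull f' E' u K'.1 = bcSub H ε T (FGA.quotPull x E ((Over.map φ).map u ≫ π) Ku.1) := fun T u => by
    change FGA.quotPull f' E' u (bcSub H ε Qs K₁.1) = _
    rw [quotPull_bcSub, show K₁.1 = FGA.quotPull x E π Ku.1 from rfl, quotPull_quotPull]
  refine ⟨K', g', ⟨hQs, fun T _ M => ?_⟩, pullback.lift_fst _ _ _, ?_⟩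
  · obtain ⟨M₀, hM₀⟩ := (bcSub_bijective H ε T).2 M.1
    have hmem := (bcSub_mem_iff H ε T M₀).1 (hM₀ ▸ M.2)
    have : IsLocallyNoetherian ((Over.map φ).obj T).left := ‹IsLocallyNoetherian T.left›
    obtain ⟨u₀, hu₀, huniq⟩ := hQ.2 ((Over.map φ).obj T) ⟨M₀, hmem⟩
    let u : T ⟶ Qs := Over.homMk (pullback.lift u₀.left T.hom (Over.w u₀)) (pullback.lift_snd _ _ _)
    have hu : (Over.map φ).map u ≫ π = u₀ := Over.OverMorphism.ext (pullback.lift_fst _ _ _)
    refine ⟨u, ?_, fun v hv => ?_⟩
    · change FGA.quotPull f' E' u K'.1 = M.1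
      rw [hgK, hu, hu₀, hM₀]
    · replace hv : FGA.quotPull f' E' v K'.1 = M.1 := hv
      rw [hgK, ← hM₀] at hv
      have hv' := huniq _ ((bcSub_bijective H ε T).1 hv)
      refine Over.OverMorphism.ext (pullback.hom_ext ?_ ?_)
      · exact (congrArg CommaMorphism.left hv').trans (congrArg CommaMorphism.left hu).symm
      · exact (Over.w v).trans (Over.w u).symm
  · let T := Over.mk (𝟙 (Spec (CommRingCat.of k)))
    let ι : (Over.map φ).obj T ⟶ Over.mk φ := Over.homMk (𝟙 _) (by simp [T])
    have hι : (Over.map φ).map g' ≫ π = ι ≫ g :=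
      Over.OverMorphism.ext ((pullback.lift_fst _ _ _).trans (Category.id_comp g.left).symm)
    let a := fibFst f'
    have hc : (Groth.Quot.bcIso H T).hom ≫ PicF.XTmap x ι = a := by
      apply pullback.hom_ext
      · rw [Category.assoc, FGA.XTmap_fst]
        exact Groth.Quot.bcIso_hom_fst H T
      · rw [Category.assoc, PicF.XTmap, pullback.lift_snd, ← Category.assoc]
        exact ((congrArg (· ≫ 𝟙 _) (Groth.Quot.bcIso_hom_proj H T)).trans (Category.comp_id _)).trans
          (((Category.comp_id _).symm).trans pullback.condition.symm)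
    have key : FGA.quotPull f' E' g' K'.1 = Groth.Quot.subPull a (Groth.Quot.modIso ε (rfl : a ≫ pullback.fst x φ = _)) K₀ := by
      rw [hgK, hι, ← quotPull_quotPull, hg]
      exact Groth.Quot.subPull_modIso_right ε (FGA.XTmap_fst x ι) (Groth.Quot.bcIso_hom_fst H T) hc rfl K₀
    rw [key]
    exact nonempty_subPull_iso a _ K₀

/-- The relative dimension of a smooth Quot scheme at a rational point. -/
theorem relDim_eq_finrank_hom {k : Type u} [Field k] [IsAlgClosed k] {X S : Scheme.{u}} (x : X ⟶ S)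
    (hprojX : ∃ (n : ℕ) (c : X ⟶ CohB1.ProjSpaceOver n S),
      IsClosedImmersion c ∧ c ≫ CohB1.ProjSpaceOver.toBase n S = x)
    (E : X.Modules) (hE : Coh.IsCoh E) {Q : Over S} [LocallyOfFiniteType Q.hom] {Ku : FGA.QuotSet x E Q}
    (hQ : FGA.QuotRepresentedBy x E Q Ku) (s : Spec (CommRingCat.of k) ⟶ S) (g : Over.mk s ⟶ Q)
    (K₀ : FGA.QuotSet x E (Over.mk s)) (hg : FGA.quotPull x E g Ku.1 = K₀.1)
    (V : Q.left.Opens) (hqV : g.left (IsLocalRing.closedPoint k) ∈ V) (d : ℕ)
    [SmoothOfRelativeDimension d (V.ι ≫ Q.hom)] :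
    d = (letI : (PicF.XT x (Over.mk s)).Over (Spec (CommRingCat.of k)) := ⟨PicF.XTproj x (Over.mk s)⟩
      Module.finrank k (Subobject.underlying.obj K₀.1 ⟶ cokernel K₀.1.arrow)) := by
  have := hE.1
  obtain ⟨K', g', hrep, hg', ⟨eM⟩, ⟨eN⟩⟩ := exists_fibre_repr x E hQ s g K₀.1 hg
  obtain ⟨n, c, hc, hcx⟩ := hprojX
  have := hc
  have hproj : ∃ (n : ℕ) (c : PicF.XT x (Over.mk s) ⟶ CohB1.ProjSpaceOver n (Spec (CommRingCat.of k))),
      IsClosedImmersion c ∧ c ≫ CohB1.ProjSpaceOver.toBase n _ = PicF.XTproj x (Over.mk s) := by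
    have hP := Groth.FlatStrata.isPullback_projMap n s
    let c' := hP.lift (pullback.fst x s ≫ c) (pullback.snd x s)
      (by rw [Category.assoc, hcx]; exact pullback.condition)
    have hc'w : c' ≫ CohB1.ProjSpaceOver.toBase n _ = pullback.snd x s := hP.lift_snd _ _ _
    refine ⟨n, c', ?_, hc'w⟩
    have h1 : IsPullback (pullback.fst x s) c' c (FGA.projMap n s) := by
      refine IsPullback.of_bot ?_ (hP.lift_fst _ _ _).symm hP
      rw [hP.lift_snd, hcx]
      exact IsPullback.of_hasPullback x s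
    exact MorphismProperty.of_isPullback h1 hc
  have : IsLocallyNoetherian (Over.mk (𝟙 (Spec (CommRingCat.of k)))).left := inferInstanceAs (IsLocallyNoetherian (Spec _))
  let K₀' := pullSet (PicF.XTproj x (Over.mk s)) (FGA.ET x E (Over.mk s)) g' K'
  have h19672 := Groth.Agent.S19672.result _ _ hproj (FGA.ET x E (Over.mk s))
    (Groth.FlatStrata.isCoh_pullback _ hE) _ K' hrep K₀' g' rfl
  let Y := PicF.XT x (Over.mk s)
  let _ : Y.Over (Spec (CommRingCat.of k)) := ⟨PicF.XTproj x (Over.mk s)⟩
  let _ : (PicF.XT (PicF.XTproj x (Over.mk s)) (Over.mk (𝟙 (Spec (CommRingCat.of k))))).Over (Spec (CommRingCat.of k)) :=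
    ⟨PicF.XTproj (PicF.XTproj x (Over.mk s)) (Over.mk (𝟙 (Spec (CommRingCat.of k))))⟩
  let a := fibFst (PicF.XTproj x (Over.mk s))
  have : a.IsOver (Spec (CommRingCat.of k)) := ⟨pullback.condition.trans (Category.comp_id _)⟩
  have hfin := finrank_hom_pullback (k := k) a eM eN
  change d = Module.finrank k (Subobject.underlying.obj K₀.1 ⟶ cokernel K₀.1.arrow)
  rw [← hfin]
  refine Eq.trans ?_ h19672
  -- the open piece of the fibre
  let f := V.ι ≫ Q.hom
  let W := pullback f s
  let p : W ⟶ Spec (CommRingCat.of k) := pullback.snd f s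
  have hP : IsPullback (pullback.fst f s) p f s := IsPullback.of_hasPullback f s
  have : SmoothOfRelativeDimension d p :=
    (smoothOfRelativeDimension_isStableUnderBaseChange d).of_isPullback hP inferInstance
  have : Smooth p := SmoothOfRelativeDimension.smooth d _
  let j : W ⟶ pullback Q.hom s := pullback.map f s Q.hom s V.ι (𝟙 _) (𝟙 _) (Category.comp_id _) (by simp)
  have : IsOpenImmersion j := inferInstance
  have : Subsingleton (Over.mk s).left := inferInstanceAs (Subsingleton (PrimeSpectrum k))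
  have hgV : Set.range g.left ⊆ (V : Set Q.left) := by
    rintro _ ⟨y, rfl⟩
    rwa [Subsingleton.elim y (IsLocalRing.closedPoint k)]
  let gV := IsOpenImmersion.lift V.ι g.left (by rwa [Scheme.Opens.range_ι])
  let w₀ : Spec (CommRingCat.of k) ⟶ W := pullback.lift gV (𝟙 _) (by
    rw [← Category.assoc, IsOpenImmersion.lift_fac]
    exact (Over.w g).trans (Category.id_comp s).symm)
  have hw₀ : w₀ ≫ j = g'.left := by
    apply pullback.hom_ext
    · rw [hg', Category.assoc, pullback.lift_fst, pullback.lift_fst_assoc, IsOpenImmersion.lift_fac]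
    · rw [Category.assoc, pullback.lift_snd, Category.comp_id, pullback.lift_snd]
      exact (Over.w g').symm
  let w := w₀ (IsLocalRing.closedPoint k)
  have hjw : j w = g'.left (IsLocalRing.closedPoint k) := by rw [← hw₀]; rfl
  let _ : W.Over (Spec (CommRingCat.of k)) := ⟨p⟩
  have : Smooth (W ↘ Spec (CommRingCat.of k)) := ‹Smooth p›
  have : LocallyOfFiniteType (W ↘ Spec (CommRingCat.of k)) := inferInstanceAs (LocallyOfFiniteType p)
  have hclosed : IsClosed ({w} : Set W) := by
    have : LocallyOfFiniteType (w₀ ≫ p) := by rw [pullback.lift_snd]; infer_instance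
    have : LocallyOfFiniteType w₀ := locallyOfFiniteType_of_comp w₀ p
    have : JacobsonSpace W := LocallyOfFiniteType.jacobsonSpace p
    exact w₀.closePoints_subset_preimage_closedPoints (IsLocalRing.isClosed_singleton_closedPoint k)
  have : IsRegularLocalRing (W.presheaf.stalk w) := Groth.VarietyBC.isRegularLocalRing_of_mem_smoothLocus (k := k) (by
    rw [Scheme.Hom.smoothLocus_eq_top]; trivial)
  have h1 : ringKrullDim (W.presheaf.stalk w) = (d : WithBot ℕ∞) := by
    rw [← Groth.Agent.S1617.result k W w hclosed, ← Groth.Curves1.CurveMor.localDim_eq_fibreDimAt p w]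
    exact Groth.Agent.S2768.result d p w
  have eW : (pullback Q.hom s).presheaf.stalk (g'.left (IsLocalRing.closedPoint k)) ≃+* W.presheaf.stalk w := by
    rw [← hjw]
    exact (asIso (j.stalkMap w)).commRingCatIsoToRingEquiv
  have : IsRegularLocalRing ((pullback Q.hom s).presheaf.stalk (g'.left (IsLocalRing.closedPoint k))) :=
    IsRegularLocalRing.of_ringEquiv eW.symm
  have h2 := ringKrullDim_eq_of_ringEquiv eW
  rw [h1, ← IsRegularLocalRing.spanFinrank_maximalIdeal,
    IsLocalRing.spanFinrank_maximalIdeal_eq_finrank_cotangentSpace] at h2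
  exact_mod_cast h2.symm

end Groth.ArtfunDeform.QuotDef
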