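import Groth.Agent.ArtfunDeform.QuotDef.Point
import Groth.Agent.ArtfunDeform.QuotDef.ObsLift
import Groth.Agent.S2793
import Groth.Agent.Quot.BaseLocal

/-!
Smoothness of a relative Quot scheme at a rational point with vanishing first Ext on the fibre.
-/

set_option autoImplicit false
set_option linter.style.longLine false

noncomputable section

universe u

open CategoryTheory CategoryTheory.Limits AlgebraicGeometry
open ArtFun ArtFun.Art
open Groth.ArtfunDeform.HilbPoint (exists_fromSpecStalk specRes_closedPoint)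

namespace Groth.ArtfunDeform.QuotDef

section Lift

variable {k : Type u} [Field k] {S : Scheme.{u}} {X : Scheme.{u}} (x : X ⟶ S) (E : X.Modules)

/-- A semismall extension as a small extension over a base. -/
def smallExtOver {B A : Art k k} (p : B ⟶ A) (hp : IsSemismallExt p) (a : Spec (CommRingCat.of B) ⟶ S)
    {e : Spec (CommRingCat.of k) ⟶ S} (he : specRes B ≫ a = e) : SmallExt S B A k where
  a := a
  b := specMap p ≫ a
  e := e
  g := Over.homMk (specMap p) rfl
  g₀ := Over.homMk (specRes B) he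
  π := p.toAlgHom.toRingHom
  ρ := B.res.toRingHom
  hg := rfl
  hg₀ := rfl
  hπ := hp.1
  hρ := B.res_surjective
  n := (smallExt p hp).n
  t := (smallExt p hp).t
  ht := (smallExt p hp).ht
  hle := (smallExt p hp).hle
  kill := (smallExt p hp).kill
  indep := (smallExt p hp).indep

/-- A point of the Quot scheme lifts along a semismall extension. -/
theorem exists_lift_point (hE : Coh.IsCoh E) (hflat : FlatMod.IsFlatOver x E) {Q : Over S}
    {Ku : FGA.QuotSet x E Q} (hQ : FGA.QuotRepresentedBy x E Q Ku) {s : Spec (CommRingCat.of k) ⟶ S}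
    (K₀ : Subobject (FGA.ET x E (Over.mk s))) [HasExt.{u} (PicF.XT x (Over.mk s)).Modules]
    (h1 : Subsingleton (Abelian.Ext.{u} (Subobject.underlying.obj K₀) (cokernel K₀.arrow) 1))
    (g : Over.mk s ⟶ Q) (hg : FGA.quotPull x E g Ku.1 = K₀)
    {B A : Art k k} (p : B ⟶ A) (hp : IsSemismallExt p) (a : Spec (CommRingCat.of B) ⟶ S)
    (ha : specRes B ≫ a = s) (γ₀ : Over.mk (specMap p ≫ a) ⟶ Q) (hγ : specRes A ≫ γ₀.left = g.left) :
    ∃ γ : Over.mk a ⟶ Q, specMap p ≫ γ.left = γ₀.left := by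
  have := hE.1
  let P := smallExtOver p hp a ha
  let g₁ : Over.mk s ⟶ Over.mk (specMap p ≫ a) := Over.homMk (specRes A) (by
    change specRes A ≫ specMap p ≫ a = s
    rw [← Category.assoc, specRes_comp, ha])
  have hfac : g₁ ≫ P.g = P.g₀ := Over.OverMorphism.ext (specRes_comp p)
  have hgg : g₁ ≫ γ₀ = g := Over.OverMorphism.ext hγ
  have : IsLocallyNoetherian (Over.mk a).left := inferInstanceAs (IsLocallyNoetherian (Spec _))
  have : IsLocallyNoetherian (Over.mk (specMap p ≫ a)).left := inferInstanceAs (IsLocallyNoetherian (Spec _))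
  have hK : FGA.quotPull x E g₁ (pullSet x E γ₀ Ku).1 = K₀ := by
    rw [pullSet_val, quotPull_quotPull, hgg, hg]
  obtain ⟨K', hK'⟩ := P.exists_extension x E (ker_smallExt_rho p hp) hE
    (Groth.FlatMorOne.isFlatOver_baseChange (IsPullback.of_hasPullback x (Over.mk a).hom) E hflat)
    (pullSet x E γ₀ Ku) g₁ hfac K₀ hK h1
  obtain ⟨γ, hγK, -⟩ := hQ.2 (Over.mk a) K'
  refine ⟨γ, congrArg CommaMorphism.left
    ((hQ.2 (Over.mk (specMap p ≫ a)) (pullSet x E γ₀ Ku)).unique (y₁ := P.g ≫ γ) ?_ (pullSet_val x E γ₀ Ku).symm)⟩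
  exact (quotPull_quotPull x E γ P.g Ku.1).symm.trans ((congrArg (FGA.quotPull x E P.g) hγK).trans hK')

/-- Smoothness at a rational point with vanishing first Ext on the fibre. -/
theorem exists_open_smooth (σ : S ⟶ Spec (CommRingCat.of k)) [IsLocallyNoetherian S]
    (hE : Coh.IsCoh E) (hflat : FlatMod.IsFlatOver x E) {Q : Over S} [LocallyOfFiniteType Q.hom]
    {Ku : FGA.QuotSet x E Q} (hQ : FGA.QuotRepresentedBy x E Q Ku) {s : Spec (CommRingCat.of k) ⟶ S}
    (hs : s ≫ σ = 𝟙 _)
    (K₀ : Subobject (FGA.ET x E (Over.mk s))) [HasExt.{u} (PicF.XT x (Over.mk s)).Modules]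
    (h1 : Subsingleton (Abelian.Ext.{u} (Subobject.underlying.obj K₀) (cokernel K₀.arrow) 1))
    (g : Over.mk s ⟶ Q) (hg : FGA.quotPull x E g Ku.1 = K₀) :
    ∃ U : Q.left.Opens, g.left (IsLocalRing.closedPoint k) ∈ U ∧ Smooth (U.ι ≫ Q.hom) := by
  generalize hq : g.left (IsLocalRing.closedPoint k) = q
  refine (Groth.Agent.S2793.result Q.hom q).2 ?_
  intro A' _ _ _ h _ I hI hIm g₀ hg₀ hloc hsurj
  let κ : CommRingCat.of k ⟶ S.presheaf.stalk (Q.hom q) := Spec.preimage (S.fromSpecStalk _ ≫ σ)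
  let st := Q.hom.stalkMap q
  obtain ⟨r, hr⟩ := exists_fromSpecStalk (B := CommRingCat.of k) g.left hq
  let _ : Algebra k A' := (κ ≫ CommRingCat.ofHom h).hom.toAlgebra
  have hrκ : ∀ c : k, r.hom (st.hom (κ.hom c)) = c := fun c => by
    have e : κ ≫ st ≫ r = 𝟙 _ := by
      refine Spec.map_injective ?_
      rw [Spec.map_comp, Spec.map_comp, Spec.map_id, Spec.map_preimage, Category.assoc,
        Scheme.SpecMap_stalkMap_fromSpecStalk_assoc, reassoc_of% hr, ← hs, ← Category.assoc g.left]
      exact congrArg (· ≫ σ) (Over.w g)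
    exact ConcreteCategory.congr_hom e c
  have hrm : RingHom.ker r.hom = IsLocalRing.maximalIdeal (Q.left.presheaf.stalk q) :=
    IsLocalRing.eq_maximalIdeal (RingHom.ker_isMaximal_of_surjective r.hom fun c => ⟨_, hrκ c⟩)
  have hIle : I ≤ IsLocalRing.maximalIdeal A' := IsLocalRing.le_maximalIdeal hI
  -- residue classes of lifts
  have key : ∀ (b : Q.left.presheaf.stalk q) (a' : A'),
      g₀ b - Ideal.Quotient.mk I a' ∈ (IsLocalRing.maximalIdeal A').map (Ideal.Quotient.mk I) →
      a' - algebraMap k A' (r.hom b) ∈ IsLocalRing.maximalIdeal A' := fun b a' hb => by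
    have hb' : b - st.hom (κ.hom (r.hom b)) ∈ IsLocalRing.maximalIdeal (Q.left.presheaf.stalk q) := by
      rw [← hrm, RingHom.mem_ker, map_sub, hrκ, sub_self]
    have hc : g₀ (st.hom (κ.hom (r.hom b))) = Ideal.Quotient.mk I (algebraMap k A' (r.hom b)) :=
      RingHom.congr_fun hg₀ (κ.hom (r.hom b))
    have h2 := sub_mem (hloc _ hb') hb
    rw [map_sub, hc, sub_sub_sub_cancel_left, ← map_sub, Ideal.mem_quotient_iff_mem_sup, sup_eq_left.2 hIle] at h2
    exact h2
  -- the residue field
  have hbij : Function.Bijective (algebraMap k (IsLocalRing.ResidueField A')) := by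
    refine ⟨(algebraMap k (IsLocalRing.ResidueField A')).injective, fun z => ?_⟩
    obtain ⟨a', rfl⟩ := IsLocalRing.residue_surjective z
    obtain ⟨b, hb⟩ := hsurj a'
    exact ⟨r.hom b, (Ideal.Quotient.eq.2 (key b a' hb)).symm⟩
  let ε : k ≃ₐ[k] IsLocalRing.ResidueField A' := AlgEquiv.ofBijective (Algebra.ofId k _) hbij
  let res : A' →ₐ[k] k := ε.symm.toAlgHom.comp (IsScalarTower.toAlgHom k A' (IsLocalRing.ResidueField A'))
  have hres : Function.Surjective res := fun c => ⟨algebraMap k A' c, res.commutes c⟩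
  let B : Art k k := Art.of A' res hres
  have hres' : ∀ (b : Q.left.presheaf.stalk q) (a' : A'), g₀ b = Ideal.Quotient.mk I a' → res a' = r.hom b :=
    fun b a' e => by
      have hm := key b a' (by rw [e, sub_self]; exact Ideal.zero_mem _)
      have h0 := (B.mem_maximalIdeal_iff _).1 hm
      exact sub_eq_zero.1 ((map_sub res a' _).symm.trans h0 |> fun h => by
        rw [show res (algebraMap k A' (r.hom b)) = r.hom b from res.commutes _] at h; exact h)
  let p : B ⟶ quot B I hIle := quotMk B I hIle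
  have hp : IsSemismallExt p := ⟨quotMk_surjective B I hIle, by
    show IsLocalRing.maximalIdeal A' * RingHom.ker (Ideal.Quotient.mk I) = ⊥
    rw [Ideal.mk_ker, mul_comm]; exact hIm⟩
  let a : Spec (CommRingCat.of B) ⟶ S := Spec.map (CommRingCat.ofHom h) ≫ S.fromSpecStalk (Q.hom q)
  have ha : specRes B ≫ a = s := by
    have e : CommRingCat.ofHom h ≫ CommRingCat.ofHom res.toRingHom = st ≫ r :=
      CommRingCat.hom_ext (RingHom.ext fun y => hres' (st.hom y) (h y) (RingHom.congr_fun hg₀ y))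
    change Spec.map (CommRingCat.ofHom res.toRingHom) ≫ Spec.map (CommRingCat.ofHom h) ≫ S.fromSpecStalk (Q.hom q) = s
    rw [← Category.assoc, ← Spec.map_comp, e, Spec.map_comp, Category.assoc,
      Scheme.SpecMap_stalkMap_fromSpecStalk, reassoc_of% hr]
    exact Over.w g
  let γ₀ : Over.mk (specMap p ≫ a) ⟶ Q :=
    Over.homMk (Spec.map (CommRingCat.ofHom g₀) ≫ Q.left.fromSpecStalk q) (by
      change (Spec.map (CommRingCat.ofHom g₀) ≫ Q.left.fromSpecStalk q) ≫ Q.hom =
        Spec.map _ ≫ Spec.map (CommRingCat.ofHom h) ≫ S.fromSpecStalk (Q.hom q)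
      rw [Category.assoc, ← Scheme.SpecMap_stalkMap_fromSpecStalk, ← Category.assoc, ← Spec.map_comp]
      refine (congrArg (fun f => Spec.map f ≫ S.fromSpecStalk (Q.hom q))
        (show st ≫ CommRingCat.ofHom g₀ = CommRingCat.ofHom h ≫ CommRingCat.ofHom (Ideal.Quotient.mk I) from
          CommRingCat.hom_ext hg₀)).trans ?_
      exact (congrArg (· ≫ S.fromSpecStalk (Q.hom q)) (Spec.map_comp _ _)).trans (Category.assoc _ _ _))
  have hγ : specRes (quot B I hIle) ≫ γ₀.left = g.left := by
    have e : CommRingCat.ofHom g₀ ≫ CommRingCat.ofHom (quot B I hIle).res.toRingHom = r :=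
      CommRingCat.hom_ext (RingHom.ext fun b => by
        obtain ⟨a', ha'⟩ := Ideal.Quotient.mk_surjective (g₀ b)
        change (quot B I hIle).res (g₀ b) = r.hom b
        rw [← ha']
        exact hres' b a' ha'.symm)
    change Spec.map _ ≫ Spec.map (CommRingCat.ofHom g₀) ≫ Q.left.fromSpecStalk q = g.left
    exact (Category.assoc _ _ _).symm.trans
      ((congrArg (· ≫ _) ((Spec.map_comp _ _).symm.trans (congrArg Spec.map e))).trans hr)
  obtain ⟨γ, hγγ⟩ := exists_lift_point x E hE hflat hQ K₀ h1 g hg p hp a ha γ₀ hγ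
  have hcp : γ.left (IsLocalRing.closedPoint B) = q := by
    rw [← specRes_closedPoint B, ← hq, ← hγ, ← hγγ, ← Category.assoc, specRes_comp]
    rfl
  obtain ⟨φ, hφ⟩ := exists_fromSpecStalk (B := CommRingCat.of B) γ.left hcp
  refine ⟨φ.hom, ?_, ?_⟩
  · have e : st ≫ φ = CommRingCat.ofHom h := by
      refine Spec.map_injective ((cancel_mono (S.fromSpecStalk (Q.hom q))).1 ?_)
      rw [Spec.map_comp, Category.assoc, Scheme.SpecMap_stalkMap_fromSpecStalk, reassoc_of% hφ]
      exact Over.w γ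
    exact congrArg CommRingCat.Hom.hom e
  · have e : φ ≫ CommRingCat.ofHom (Ideal.Quotient.mk I) = CommRingCat.ofHom g₀ := by
      refine Spec.map_injective ((cancel_mono (Q.left.fromSpecStalk q)).1 ?_)
      rw [Spec.map_comp, Category.assoc, hφ]
      exact hγγ
    exact congrArg CommRingCat.Hom.hom e

end Lift

end Groth.ArtfunDeform.QuotDef
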